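import Cfsg.Agent.TensorSpectrum.Basic

/-!
# The maximal element orders of the twisted tensor product extension
-/

set_option autoImplicit false

namespace CfsgLib.TensorSpectrum

open Matrix CfsgLib.SL2Trace CfsgLib.SL2Mult
open scoped MatrixGroups

variable {K : Type*} [Field K] [CharP K 3]

local instance : ExpChar K 3 := ExpChar.prime Nat.prime_three

theorem proj_up_pow_three : proj (up (1 : K)) ^ 3 = 1 := by
  haveI : Fact (Nat.Prime 3) := ⟨Nat.prime_three⟩
  refine proj_pow_char_eq_one 3 _ ?_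
  rw [Matrix.trace_fin_two]
  simp [up, coe_mkSL]
  norm_num

theorem proj_up_ne_one : proj (up (1 : K)) ≠ 1 := by
  rw [ne_eq, proj_eq_one_iff]
  rintro (h | h)
  · have := congrArg (fun g : SL(2, K) => (g : Matrix (Fin 2) (Fin 2) K) 0 1) h
    simp [up, coe_mkSL] at this
  · have := congrArg (fun g : SL(2, K) => (g : Matrix (Fin 2) (Fin 2) K) 0 1) h
    simp [up, coe_mkSL] at this

theorem exists_nine : ∃ x : Grp K, orderOf x = 9 := by
  haveI : Fact (Nat.Prime 3) := ⟨Nat.prime_three⟩
  have h3 : (3 : K) = 0 := by exact_mod_cast CharP.cast_eq_zero K 3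
  refine ⟨⟨Multiplicative.ofAdd !![0, 0; 0, 1], (proj (up 1), 1)⟩, ?_⟩
  set v : Multiplicative (Matrix (Fin 2) (Fin 2) K) := Multiplicative.ofAdd !![0, 0; 0, 1] with hv
  set x : Grp K := ⟨v, (proj (up 1), 1)⟩ with hx
  have hr : (x ^ 3).right = 1 := by
    rw [← SemidirectProduct.rightHom_eq_right, map_pow, SemidirectProduct.rightHom_eq_right]
    exact Prod.ext proj_up_pow_three (one_pow 3)
  have hl : (x ^ 3).left = Multiplicative.ofAdd !![2, 0; 0, 0] := by
    rw [pow_succ, pow_two, SemidirectProduct.mul_left, SemidirectProduct.mul_left, SemidirectProduct.mul_right,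
      map_mul, MulAut.mul_apply]
    have h1 : action (x.right) x.left =
        Multiplicative.ofAdd ((up (1 : K) : Matrix (Fin 2) (Fin 2) K) * (((1 : ℤˣ) : ℤ) • !![0, 0; 0, 1]) * tw (up 1)) := rfl
    rw [h1, action_apply]
    apply Multiplicative.toAdd.injective
    rw [toAdd_mul, toAdd_mul]
    change !![0, 0; 0, 1] + _ + _ = _
    have ht : tw (up (1 : K)) = !![1, 0; 1, 1] := by
      ext i j
      fin_cases i <;> fin_cases j <;> simp [tw, up, coe_mkSL]
    simp only [toAdd_ofAdd, Units.val_one, one_smul, ht]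
    simp [up, coe_mkSL]
    exact ⟨⟨by linear_combination h3, by linear_combination h3⟩, by linear_combination h3, by linear_combination h3⟩
  have h9 : x ^ 9 = 1 := by
    rw [show 9 = 3 * 3 from rfl, pow_mul]
    apply SemidirectProduct.ext
    · have : x ^ 3 = SemidirectProduct.inl (x ^ 3).left := by
        exact SemidirectProduct.ext (SemidirectProduct.left_inl _).symm (by rw [SemidirectProduct.right_inl, hr])
      rw [this, ← map_pow, cube_eq_one, map_one]
    · rw [← SemidirectProduct.rightHom_eq_right, map_pow, SemidirectProduct.rightHom_eq_right, hr, one_pow,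
        SemidirectProduct.one_right]
  refine orderOf_eq_prime_pow (p := 3) (n := 1) (fun h => ?_) (by norm_num; exact h9)
  have h' : (2 : K) = 0 := by
    have := congrFun (congrFun (congrArg (fun y : Grp K => y.left.toAdd) (show x ^ 3 = 1 by simpa using h)) 0) 0
    rw [hl] at this
    simpa using this
  exact one_ne_zero (α := K) (by linear_combination h3 - h')

theorem orderOf_neg_one_units : orderOf (-1 : ℤˣ) = 2 :=
  orderOf_eq_prime (by decide) (by decide)

theorem orderOf_inr (g : Top K) : orderOf (SemidirectProduct.inr g : Grp K) = Nat.lcm (orderOf g.1) (orderOf g.2) := by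
  rw [orderOf_injective _ SemidirectProduct.inr_injective, Prod.orderOf]

variable [Fintype K]

theorem maximal_orders (hK : Fintype.card K % 4 = 3) (hbig : 27 ≤ Fintype.card K) :
    {n : ℕ | n ∈ Set.range (orderOf : Grp K → ℕ) ∧ ∀ m ∈ Set.range (orderOf : Grp K → ℕ), n ∣ m → m = n} =
      ({6, 9, Fintype.card K - 1, (Fintype.card K + 1) / 2} : Set ℕ) := by
  set q := Fintype.card K with hq
  haveI : Fact (Nat.Prime 3) := ⟨Nat.prime_three⟩
  have h2 : (2 : K) ≠ 0 := Ring.two_ne_zero (by rw [ringChar.eq K 3]; decide)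
  have h3q : q % 3 = 0 := by
    obtain ⟨n, -, hn⟩ := FiniteField.card K 3
    obtain ⟨k, hk⟩ := dvd_pow_self 3 n.pos.ne'
    omega
  have e6 : 6 ∈ Set.range (orderOf : Grp K → ℕ) := by
    refine ⟨SemidirectProduct.inr (proj (up 1), -1), ?_⟩
    rw [orderOf_inr, orderOf_eq_prime proj_up_pow_three proj_up_ne_one, orderOf_neg_one_units]
    rfl
  have e9 : 9 ∈ Set.range (orderOf : Grp K → ℕ) := exists_nine
  have half : ∀ (A : SL(2, K)) (m : ℕ), 0 < m → orderOf A = 2 * m → orderOf (proj A) = m := by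
    intro A m hm hA
    apply Nat.dvd_antisymm
    · apply orderOf_dvd_of_pow_eq_one
      rw [proj, ← QuotientGroup.mk_pow, ← proj, proj_eq_one_iff]
      exact Or.inr (pow_half_eq h2 hm hA)
    · have hp := pow_orderOf_eq_one (proj A)
      rw [proj, ← QuotientGroup.mk_pow, ← proj, proj_eq_one_iff] at hp
      have : A ^ (orderOf (proj A) * 2) = 1 := by
        rcases hp with h | h <;> rw [pow_mul, h] <;> simp
      have := orderOf_dvd_of_pow_eq_one this
      rw [hA, mul_comm (orderOf (proj A))] at this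
      exact (Nat.mul_dvd_mul_iff_left two_pos).1 this
  have eM : q - 1 ∈ Set.range (orderOf : Grp K → ℕ) := by
    obtain ⟨A, hA, -⟩ := exists_split (F := K)
    refine ⟨SemidirectProduct.inr (proj A, -1), ?_⟩
    rw [orderOf_inr, half A ((q - 1) / 2) (by omega) (by rw [hA, ← hq]; omega), orderOf_neg_one_units]
    rw [Nat.Coprime.lcm_eq_mul (Nat.coprime_two_right.2 (Nat.odd_iff.2 (by omega)))]
    omega
  have eP : (q + 1) / 2 ∈ Set.range (orderOf : Grp K → ℕ) := by
    obtain ⟨t, -, hA⟩ := exists_nonsplit (F := K)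
    refine ⟨SemidirectProduct.inr (proj (companion t), 1), ?_⟩
    rw [orderOf_inr, half _ ((q + 1) / 2) (by omega) (by rw [hA, ← hq]; omega), orderOf_one]
    exact Nat.lcm_one_right _
  have hup : ∀ m ∈ Set.range (orderOf : Grp K → ℕ), m ∣ 6 ∨ m ∣ 9 ∨ m ∣ q - 1 ∨ m ∣ (q + 1) / 2 := by
    rintro _ ⟨x, rfl⟩
    exact orderOf_dvd_cases hK x
  have n6 : ∀ b, 6 ∣ b → b ≠ q - 1 ∧ b ≠ (q + 1) / 2 ∧ b ≠ 9 := by
    intro b ⟨c, hc⟩
    omega
  have n9 : ∀ b, 9 ∣ b → b ≠ q - 1 ∧ b ≠ (q + 1) / 2 ∧ b ≠ 6 := by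
    intro b ⟨c, hc⟩
    omega
  have nM : ∀ b, (q - 1) ∣ b → b ≠ 6 ∧ b ≠ 9 ∧ b ≠ (q + 1) / 2 := by
    intro b hb
    refine ⟨?_, ?_, ?_⟩ <;> rintro rfl <;> have := Nat.le_of_dvd (by omega) hb <;> omega
  have nP : ∀ b, (q + 1) / 2 ∣ b → b ≠ 6 ∧ b ≠ 9 ∧ b ≠ q - 1 := by
    intro b hb
    refine ⟨?_, ?_, ?_⟩
    · rintro rfl
      have := Nat.le_of_dvd (by omega) hb
      omega
    · rintro rfl
      have := Nat.le_of_dvd (by omega) hb
      omega
    · rintro rfl
      have h : (q + 1) / 2 ∣ 2 := by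
        have := Nat.dvd_sub (dvd_mul_left ((q + 1) / 2) 2) hb
        rwa [show 2 * ((q + 1) / 2) - (q - 1) = 2 by omega] at this
      have := Nat.le_of_dvd two_pos h
      omega
  ext n
  simp only [Set.mem_setOf_eq, Set.mem_insert_iff, Set.mem_singleton_iff]
  constructor
  · rintro ⟨hn, hmax⟩
    rcases hup n hn with h | h | h | h
    · exact Or.inl (hmax 6 e6 h).symm
    · exact Or.inr (Or.inl (hmax 9 e9 h).symm)
    · exact Or.inr (Or.inr (Or.inl (hmax _ eM h).symm))
    · exact Or.inr (Or.inr (Or.inr (hmax _ eP h).symm))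
  · rintro (rfl | rfl | rfl | rfl)
    · refine ⟨e6, fun m hm hd => ?_⟩
      rcases hup m hm with h | h | h | h
      · exact Nat.dvd_antisymm h hd
      all_goals exact absurd rfl (by first | exact (n6 _ (hd.trans h)).1 | exact (n6 _ (hd.trans h)).2.1 | exact (n6 _ (hd.trans h)).2.2)
    · refine ⟨e9, fun m hm hd => ?_⟩
      rcases hup m hm with h | h | h | h
      · exact absurd rfl (n9 _ (hd.trans h)).2.2
      · exact Nat.dvd_antisymm h hd
      · exact absurd rfl (n9 _ (hd.trans h)).1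
      · exact absurd rfl (n9 _ (hd.trans h)).2.1
    · refine ⟨eM, fun m hm hd => ?_⟩
      rcases hup m hm with h | h | h | h
      · exact absurd rfl (nM _ (hd.trans h)).1
      · exact absurd rfl (nM _ (hd.trans h)).2.1
      · exact Nat.dvd_antisymm h hd
      · exact absurd rfl (nM _ (hd.trans h)).2.2
    · refine ⟨eP, fun m hm hd => ?_⟩
      rcases hup m hm with h | h | h | h
      · exact absurd rfl (nP _ (hd.trans h)).1
      · exact absurd rfl (nP _ (hd.trans h)).2.1
      · exact absurd rfl (nP _ (hd.trans h)).2.2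
      · exact Nat.dvd_antisymm h hd

theorem exists_core :
    ∃ P : Subgroup (Grp K), P.Normal ∧ P ≠ ⊥ ∧ IsPGroup 3 P := by
  refine ⟨(SemidirectProduct.inl : Multiplicative (Matrix (Fin 2) (Fin 2) K) →* Grp K).range, ?_, ?_, ?_⟩
  · rw [SemidirectProduct.range_inl_eq_ker_rightHom]
    infer_instance
  · intro h
    rw [MonoidHom.range_eq_bot_iff] at h
    have := DFunLike.congr_fun h (Multiplicative.ofAdd (1 : Matrix (Fin 2) (Fin 2) K))
    rw [MonoidHom.one_apply, ← map_one (SemidirectProduct.inl : Multiplicative (Matrix (Fin 2) (Fin 2) K) →* Grp K)] at this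
    exact one_ne_zero (α := Matrix (Fin 2) (Fin 2) K) (congrArg Multiplicative.toAdd (SemidirectProduct.inl_injective this))
  · rintro ⟨_, v, rfl⟩
    exact ⟨1, Subtype.ext (by rw [SubgroupClass.coe_pow, pow_one, ← map_pow, cube_eq_one, map_one]; rfl)⟩

end CfsgLib.TensorSpectrum
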