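import Mathlib
import Cfsg.Agent.SL2Mult.Elements

/-!
# A twisted tensor product module of `PSL(2, q) × 2` in characteristic three and its spectrum
-/

set_option autoImplicit false

namespace CfsgLib.TensorSpectrum

open Matrix CfsgLib.SL2Trace
open scoped MatrixGroups

variable {K : Type*} [Field K] [CharP K 3]

local instance : ExpChar K 3 := ExpChar.prime Nat.prime_three

/-- The twisted matrix. -/
abbrev tw (A : SL(2, K)) : Matrix (Fin 2) (Fin 2) K :=
  ((A : Matrix (Fin 2) (Fin 2) K).map (frobenius K 3))ᵀ

theorem tw_mul (A B : SL(2, K)) : tw (A * B) = tw B * tw A := by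
  rw [tw, Matrix.SpecialLinearGroup.coe_mul, Matrix.map_mul, Matrix.transpose_mul]

theorem tw_one : tw (1 : SL(2, K)) = 1 := by
  simp [tw]

/-- The action on the four-dimensional module. -/
def linAct : SL(2, K) →* MulAut (Multiplicative (Matrix (Fin 2) (Fin 2) K)) where
  toFun A :=
    { toFun := fun X => Multiplicative.ofAdd ((A : Matrix (Fin 2) (Fin 2) K) * X.toAdd * tw A)
      invFun := fun X => Multiplicative.ofAdd (((A⁻¹ : SL(2, K)) : Matrix (Fin 2) (Fin 2) K) * X.toAdd * tw A⁻¹)
      left_inv := fun X => by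
        apply Multiplicative.toAdd.injective
        simp only [toAdd_ofAdd, ← Matrix.mul_assoc]
        rw [← Matrix.SpecialLinearGroup.coe_mul, inv_mul_cancel, Matrix.SpecialLinearGroup.coe_one,
          Matrix.one_mul, Matrix.mul_assoc, ← tw_mul, inv_mul_cancel, tw_one, Matrix.mul_one]
      right_inv := fun X => by
        apply Multiplicative.toAdd.injective
        simp only [toAdd_ofAdd, ← Matrix.mul_assoc]
        rw [← Matrix.SpecialLinearGroup.coe_mul, mul_inv_cancel, Matrix.SpecialLinearGroup.coe_one,
          Matrix.one_mul, Matrix.mul_assoc, ← tw_mul, mul_inv_cancel, tw_one, Matrix.mul_one]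
      map_mul' := fun X Y => by
        simp only [toAdd_mul, Matrix.mul_add, Matrix.add_mul, ofAdd_add] }
  map_one' := by
    ext X : 1
    apply Multiplicative.toAdd.injective
    simp [tw_one]
  map_mul' A B := by
    ext X : 1
    apply Multiplicative.toAdd.injective
    simp [tw_mul, Matrix.mul_assoc]

/-- The action of the sign group. -/
def signAct : ℤˣ →* MulAut (Multiplicative (Matrix (Fin 2) (Fin 2) K)) where
  toFun ε :=
    { toFun := fun X => Multiplicative.ofAdd ((ε : ℤ) • X.toAdd)
      invFun := fun X => Multiplicative.ofAdd ((ε : ℤ) • X.toAdd)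
      left_inv := fun X => by
        apply Multiplicative.toAdd.injective
        rcases Int.units_eq_one_or ε with h | h <;> simp [h]
      right_inv := fun X => by
        apply Multiplicative.toAdd.injective
        rcases Int.units_eq_one_or ε with h | h <;> simp [h]
      map_mul' := fun X Y => by
        simp only [toAdd_mul, smul_add, ofAdd_add] }
  map_one' := by
    ext X : 1
    simp
  map_mul' a b := by
    ext X : 1
    apply Multiplicative.toAdd.injective
    simp [mul_smul]

/-- The action of the projective group. -/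
def projAct : Matrix.ProjectiveSpecialLinearGroup (Fin 2) K →* MulAut (Multiplicative (Matrix (Fin 2) (Fin 2) K)) :=
  QuotientGroup.lift _ linAct fun A hA => by
    rcases (mem_center_iff_eq A).1 hA with rfl | rfl
    · exact map_one _
    · ext X : 1
      apply Multiplicative.toAdd.injective
      simp [linAct, tw, Matrix.map_neg]

variable (K) in
/-- The acting group. -/
abbrev Top := Matrix.ProjectiveSpecialLinearGroup (Fin 2) K × ℤˣ

/-- The whole action. -/
def action : Top K →* MulAut (Multiplicative (Matrix (Fin 2) (Fin 2) K)) :=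
  projAct.noncommCoprod signAct fun g ε => by
    obtain ⟨A, rfl⟩ := proj_surjective g
    ext X : 1
    apply Multiplicative.toAdd.injective
    rcases Int.units_eq_one_or ε with h | h <;> subst h <;> simp [projAct, linAct, signAct]

theorem action_apply (A : SL(2, K)) (ε : ℤˣ) (X : Matrix (Fin 2) (Fin 2) K) :
    action (proj A, ε) (Multiplicative.ofAdd X) =
      Multiplicative.ofAdd ((A : Matrix (Fin 2) (Fin 2) K) * ((ε : ℤ) • X) * tw A) := rfl

variable (K) in
/-- The group. -/
abbrev Grp := Multiplicative (Matrix (Fin 2) (Fin 2) K) ⋊[action (K := K)] Top K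

theorem cube_eq_one (w : Multiplicative (Matrix (Fin 2) (Fin 2) K)) : w ^ 3 = 1 := by
  apply Multiplicative.toAdd.injective
  rw [toAdd_pow, toAdd_one, ← Nat.cast_smul_eq_nsmul K, CharP.cast_eq_zero, zero_smul]

/-- A fixed point forces the trace to be `0` or `± 1`. -/
theorem trace_of_fixed (hneg : ¬ IsSquare (-1 : K)) (A : SL(2, K)) (ε : ℤˣ) (X : Matrix (Fin 2) (Fin 2) K)
    (hX : X ≠ 0) (h : (A : Matrix (Fin 2) (Fin 2) K) * ((ε : ℤ) • X) * tw A = X) :
    Matrix.trace (A : Matrix (Fin 2) (Fin 2) K) = 0 ∨ Matrix.trace (A : Matrix (Fin 2) (Fin 2) K) ^ 2 = 1 := by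
  set t := Matrix.trace (A : Matrix (Fin 2) (Fin 2) K) with ht
  set e : K := ((ε : ℤ) : K) with he
  have he2 : e * e = 1 := by rcases Int.units_eq_one_or ε with h | h <;> simp [he, h]
  have hAdef : t = A.1 0 0 + A.1 1 1 := Matrix.trace_fin_two _
  set I : Matrix (Fin 2) (Fin 2) K := ((A⁻¹ : SL(2, K)) : Matrix (Fin 2) (Fin 2) K) with hI
  have hIA : I * (A : Matrix (Fin 2) (Fin 2) K) = 1 := by
    rw [hI, ← Matrix.SpecialLinearGroup.coe_mul, inv_mul_cancel, Matrix.SpecialLinearGroup.coe_one]
  have hAI : (A : Matrix (Fin 2) (Fin 2) K) * I = 1 := by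
    rw [hI, ← Matrix.SpecialLinearGroup.coe_mul, mul_inv_cancel, Matrix.SpecialLinearGroup.coe_one]
  have hXB : X * tw A = e • (I * X) := by
    have h' := congrArg (fun M => I * M) h
    simp only [← Matrix.mul_assoc, hIA, Matrix.one_mul] at h'
    rw [← Int.cast_smul_eq_zsmul K (ε : ℤ) X, ← he, Matrix.smul_mul] at h'
    rw [← h', smul_smul, he2, one_smul]
  have hB2 : tw A ^ 2 - t ^ 3 • tw A + 1 = 0 := by
    have hc : (((A : Matrix (Fin 2) (Fin 2) K) ^ 2 - t • (A : Matrix (Fin 2) (Fin 2) K) + 1).map (frobenius K 3))ᵀ = 0 := by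
      rw [cayley A t ht.symm]; simp
    rw [← RingHom.mapMatrix_apply, map_add, map_sub, map_pow, map_one, RingHom.mapMatrix_apply,
      RingHom.mapMatrix_apply, Matrix.map_smul' _ _ _ (frobenius K 3).map_mul, frobenius_def] at hc
    simpa [tw, Matrix.transpose_pow] using hc
  have hI2 : I ^ 2 - t • I + 1 = 0 := by
    refine cayley A⁻¹ t ?_
    rw [Matrix.SpecialLinearGroup.coe_inv, Matrix.adjugate_fin_two, Matrix.trace_fin_two, hAdef]
    simp [add_comm]
  have h1 : X * tw A ^ 2 = I ^ 2 * X := by
    rw [pow_two, ← Matrix.mul_assoc, hXB, Matrix.smul_mul, Matrix.mul_assoc, hXB, Matrix.mul_smul, smul_smul,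
      he2, one_smul, ← Matrix.mul_assoc, ← pow_two]
  have h2 : I ^ 2 * X - (t ^ 3 * e) • (I * X) + X = 0 := by
    have := congrArg (fun M => X * M) hB2
    simpa [Matrix.mul_add, Matrix.mul_sub, h1, hXB, smul_smul] using this
  have h3 : I ^ 2 * X - t • (I * X) + X = 0 := by
    have := congrArg (fun M => M * X) hI2
    simpa [Matrix.add_mul, Matrix.sub_mul] using this
  have h4 : (t - t ^ 3 * e) • (I * X) = 0 := by
    rw [sub_smul]
    linear_combination (norm := module) h2 - h3
  rcases smul_eq_zero.1 h4 with h5 | h5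
  · rcases mul_eq_zero.1 (show t * (1 - t ^ 2 * e) = 0 by linear_combination h5) with h6 | h6
    · exact Or.inl h6
    · right
      rcases Int.units_eq_one_or ε with hε | hε
      · rw [he, hε] at h6
        push_cast at h6
        linear_combination -h6
      · exact absurd ⟨t, by rw [he, hε] at h6; push_cast at h6; linear_combination -h6⟩ hneg
  · exact absurd (by simpa [← Matrix.mul_assoc, hAI] using congrArg (fun M => (A : Matrix (Fin 2) (Fin 2) K) * M) h5) hX

variable [Fintype K]

/-- Orders in the projective group away from the special traces. -/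
theorem proj_pow_half (A : SL(2, K)) (ht4 : Matrix.trace (A : Matrix (Fin 2) (Fin 2) K) ^ 2 ≠ 4) :
    proj A ^ ((Fintype.card K - 1) / 2) = 1 ∨ proj A ^ ((Fintype.card K + 1) / 2) = 1 := by
  have hodd : Fintype.card K % 2 = 1 := FiniteField.odd_card_of_char_ne_two (by rw [ringChar.eq K 3]; decide)
  have h2 : (2 : K) ≠ 0 := Ring.two_ne_zero (by rw [ringChar.eq K 3]; decide)
  have key : ∀ m : ℕ, A ^ (m * 2) = 1 → proj A ^ m = 1 := by
    intro m hm
    rw [proj, ← QuotientGroup.mk_pow, ← proj, proj_eq_one_iff]
    exact SL2Mult.sq_eq_one' h2 (by rw [← pow_two, ← pow_mul, hm])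
  by_cases hl : ∃ l : K, l ^ 2 - Matrix.trace (A : Matrix (Fin 2) (Fin 2) K) * l + 1 = 0
  · obtain ⟨l, hl⟩ := hl
    exact Or.inl (key _ (by rw [show (Fintype.card K - 1) / 2 * 2 = Fintype.card K - 1 by omega]
                            exact pow_card_sub_one A _ l rfl hl ht4))
  · push Not at hl
    exact Or.inr (key _ (by rw [show (Fintype.card K + 1) / 2 * 2 = Fintype.card K + 1 by omega]
                            exact pow_card_add_one A _ rfl hl))

/-- The possible orders. -/
theorem orderOf_dvd_cases (hK : Fintype.card K % 4 = 3) (x : Grp K) :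
    orderOf x ∣ 6 ∨ orderOf x ∣ 9 ∨ orderOf x ∣ Fintype.card K - 1 ∨ orderOf x ∣ (Fintype.card K + 1) / 2 := by
  have hneg : ¬ IsSquare (-1 : K) := fun h => (FiniteField.isSquare_neg_one_iff.1 h) hK
  obtain ⟨A, hA⟩ := proj_surjective x.right.1
  set ε := x.right.2 with hε
  have hr : x.right = (proj A, ε) := Prod.ext hA.symm rfl
  have hε2 : ε ^ 2 = 1 := Int.units_sq ε
  have lift : ∀ k : ℕ, (x.right) ^ k = 1 → orderOf x ∣ k * 3 := by
    intro k hk
    apply orderOf_dvd_of_pow_eq_one
    have hxk : x ^ k = SemidirectProduct.inl (x ^ k).left := by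
      refine SemidirectProduct.ext (SemidirectProduct.left_inl _).symm ?_
      rw [SemidirectProduct.right_inl, ← hk]
      exact map_pow SemidirectProduct.rightHom x k
    rw [pow_mul, hxk, ← map_pow, cube_eq_one, map_one]
  have h4 : (4 : K) = 1 := by
    have : ((3 : ℕ) : K) = 0 := CharP.cast_eq_zero K 3
    push_cast at this
    linear_combination this
  by_cases ht1 : Matrix.trace (A : Matrix (Fin 2) (Fin 2) K) ^ 2 = 1
  · haveI : Fact (Nat.Prime 3) := ⟨Nat.prime_three⟩
    have hg3 : proj A ^ 3 = 1 := proj_pow_char_eq_one 3 A (by rw [ht1, h4])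
    rcases Int.units_eq_one_or ε with he | he
    · right; left
      exact lift 3 (by rw [hr, Prod.pow_mk, hg3, he, one_pow]; rfl)
    · left
      apply orderOf_dvd_of_pow_eq_one
      rw [show 6 = 3 * 2 from rfl, pow_mul, pow_two]
      have hr3 : (x ^ 3).right = (1, -1) := by
        rw [← SemidirectProduct.rightHom_eq_right, map_pow, SemidirectProduct.rightHom_eq_right, hr,
          Prod.pow_mk, hg3, he]
        rfl
      apply SemidirectProduct.ext
      · rw [SemidirectProduct.mul_left, hr3, SemidirectProduct.one_left]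
        apply Multiplicative.toAdd.injective
        have := action_apply (1 : SL(2, K)) (-1) (x ^ 3).left.toAdd
        rw [show proj (1 : SL(2, K)) = 1 from rfl, ofAdd_toAdd] at this
        rw [this]
        simp [tw_one]
      · rw [SemidirectProduct.mul_right, hr3, SemidirectProduct.one_right]
        simp
  by_cases ht0 : Matrix.trace (A : Matrix (Fin 2) (Fin 2) K) = 0
  · left
    exact lift 2 (by rw [hr, Prod.pow_mk, proj_sq_eq_one_of_trace_zero A ht0, hε2]; rfl)
  -- no fixed points
  have main : ∀ k : ℕ, x.right ^ k = 1 → x ^ k = 1 := by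
    intro k hk
    have hright : (x ^ k).right = 1 := by
      rw [← SemidirectProduct.rightHom_eq_right, map_pow, SemidirectProduct.rightHom_eq_right, hk]
    have hcomm := congrArg SemidirectProduct.left ((Commute.pow_self x k).eq)
    rw [SemidirectProduct.mul_left, SemidirectProduct.mul_left, hright, map_one, MulAut.one_apply,
      mul_comm, hr] at hcomm
    have hfix := mul_left_cancel hcomm
    apply SemidirectProduct.ext
    · rw [SemidirectProduct.one_left]
      by_contra hne
      have hfix' := action_apply A ε (x ^ k).left.toAdd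
      rw [ofAdd_toAdd, ← hfix] at hfix'
      exact (trace_of_fixed hneg A ε _ (fun h => hne (Multiplicative.toAdd.injective h))
        (congrArg Multiplicative.toAdd hfix').symm).elim ht0 ht1
    · exact hright
  rcases proj_pow_half A (by rw [h4]; exact ht1) with hp | hp
  · right; right; left
    refine orderOf_dvd_of_pow_eq_one (main _ ?_)
    rw [show Fintype.card K - 1 = (Fintype.card K - 1) / 2 * 2 by omega, hr, Prod.pow_mk, pow_mul, hp,
      one_pow, pow_mul', hε2, one_pow]
    rfl
  · right; right; right
    refine orderOf_dvd_of_pow_eq_one (main _ ?_)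
    rw [hr, Prod.pow_mk, hp, show (Fintype.card K + 1) / 2 = 2 * ((Fintype.card K + 1) / 4) by omega,
      pow_mul, hε2, one_pow]
    rfl

end CfsgLib.TensorSpectrum
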